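import Groth.Agent.FTIdeal13.Closed
import Groth.Agent.AlgSpDec.LimAffine
import Groth.Agent.AlgSpDec.LimAffineBase
import Mathlib.AlgebraicGeometry.AffineTransitionLimit

/-!
# A closed subspace of a limit is the limit of its scheme theoretic images
-/

set_option autoImplicit false
set_option linter.style.haveILetI false
set_option backward.isDefEq.respectTransparency false
set_option backward.isDefEq.respectTransparency.types false

universe u

open CategoryTheory CategoryTheory.Limits AlgebraicGeometry Opposite AlgSp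
open Groth.Agent.AlgSpLib Groth.Agent.AlgSpPts Groth.Agent.AlgSpDec

namespace Groth.Agent.SchImLim13

variable {S : Scheme.{u}}

/-- The kernel family of a quasi-compact representable morphism lies in that of its scheme theoretic image. -/
theorem idealOfRep_le_of_isSchImage {X G Z : Sp S} (hX : IsAlgSpace X) (hG : IsAlgSpace G) {h : X ⟶ G}
    {i : Z ⟶ G} (hh : Representable h) (hq : IsQuasiCompactMor h) (him : IsSchImage h i) (hZ : IsAlgSpace Z) :
    idealOfRep hh ≤ idealOfRep him.1.1 := by
  obtain ⟨Z', i', hi', hI⟩ := exists_isCutOutBy (isQCoh_idealOfRep hh hq) hG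
  obtain ⟨k, hk⟩ := him.2.2 i' Z'.property hi'
    ((idealOfRep_le_iff_factor hX hG hi' hh).1 (by rw [hI]; exact idealEt_le_refl _))
  rw [← hI]
  exact (idealOfRep_le_iff_factor hZ hG hi' him.1.1).2 ⟨k, hk⟩

/-- A closed subspace of a limit is the limit of its scheme theoretic images. -/
theorem isLimit_schImage {I : Type u} [SmallCategory I] [IsCofiltered I] (D : I ⥤ Sp S)
    (hD : ∀ i, IsAlgSpace (D.obj i)) (hDa : ∀ (i j : I) (φ : i ⟶ j), IsAffineMor (D.map φ))
    (c : Cone D) (hc : IsLimit c) (i : I) (hqc : IsQuasiCompactSp (D.obj i))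
    (X : Space S) (a : X.obj ⟶ c.pt) (W : Space S) (w : W.obj ⟶ D.obj i) (hw : IsQuasiCompactMor w)
    (b : X.obj ⟶ W.obj) (k : X.obj ⟶ pullback (c.π.app i) w) (hk₁ : k ≫ pullback.fst _ _ = a)
    (hk₂ : k ≫ pullback.snd _ _ = b) (hk : RepWith @IsClosedImmersion k)
    (DP : Over i ⥤ Sp S) (π₁ : DP ⟶ CategoryTheory.Over.forget i ⋙ D) (π₂ : DP ⟶ (Functor.const (Over i)).obj W.obj)
    (hDP : ∀ i' : Over i, IsPullback (π₁.app i') (π₂.app i') (D.map i'.hom) w)
    (DX : Over i ⥤ Sp S) (hDX : ∀ i', IsAlgSpace (DX.obj i')) (ε : DX ⟶ DP)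
    (ξ : (Functor.const (Over i)).obj X.obj ⟶ DX)
    (hξ : ∀ i' : Over i, ξ.app i' ≫ ε.app i' ≫ π₁.app i' = a ≫ c.π.app i'.left ∧ ξ.app i' ≫ ε.app i' ≫ π₂.app i' = b)
    (himg : ∀ i' : Over i, IsSchImage (ξ.app i' ≫ ε.app i') (ε.app i')) :
    Nonempty (IsLimit (Cone.mk X.obj ξ)) := by
  classical
  haveI := IsCofiltered.isConnected (Over i)
  let P := pullback (c.π.app i) w
  let hc' := (Functor.Initial.isLimitWhiskerEquiv (CategoryTheory.Over.forget i) c).symm hc
  have hcπ : RepWith @IsAffineHom (c.π.app i) :=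
    repWith_isAffineHom_of_isAffineMor (isAffineMor_limit_proj D hDa c hc i)
  have hPA : IsAlgSpace P := isAlgSpace_of_representable (pullback.snd (c.π.app i) w)
    (repWith_of_isPullback (IsPullback.of_hasPullback (c.π.app i) w) hcπ).rep W.property
  -- the projections of the limit
  let q : ∀ j : Over i, P ⟶ DP.obj j := fun j => (hDP j).lift (pullback.fst _ _ ≫ c.π.app j.left) (pullback.snd _ _)
    (by rw [Category.assoc, c.w, pullback.condition])
  have hqa : ∀ j, RepWith @IsAffineHom (q j) := fun j => by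
    have h1 : IsPullback (pullback.fst (c.π.app i) w) (q j) (c.π.app j.left) (π₁.app j) := by
      refine IsPullback.of_bot (h₂₁ := π₁.app j) (v₂₁ := π₂.app j) (v₂₂ := D.map j.hom) (h₃₁ := w) ?_
        ((hDP j).lift_fst _ _ _).symm (hDP j)
      rw [(hDP j).lift_snd, c.w]
      exact IsPullback.of_hasPullback _ _
    exact repWith_of_isPullback h1 (repWith_isAffineHom_of_isAffineMor (isAffineMor_limit_proj D hDa c hc j.left))
  have hkq : ∀ j, k ≫ q j = ξ.app j ≫ ε.app j := fun j => (hDP j).hom_ext
    (by rw [Category.assoc, (hDP j).lift_fst, ← Category.assoc, hk₁, Category.assoc, (hξ j).1])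
    (by rw [Category.assoc, (hDP j).lift_snd, hk₂, Category.assoc, (hξ j).2])
  have hha : ∀ j, RepWith @IsAffineHom (ξ.app j ≫ ε.app j) := fun j => by
    rw [← hkq j]
    exact repWith_comp (repWith_mono (fun _ _ e (_ : IsClosedImmersion e) => inferInstanceAs (IsAffineHom e)) _ hk) (hqa j)
  have hDPA : ∀ j, IsAlgSpace (DP.obj j) := fun j => isAlgSpace_of_isPullback (hDP j) (hD j.left) W.property (hD i)
  have hKle : ∀ j, idealOfRep (hha j).rep ≤ idealOfRep (himg j).1.1 := fun j =>
    idealOfRep_le_of_isSchImage X.property (hDPA j) (hha j).rep (isQuasiCompactMor_of_repWith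
      (repWith_mono (fun _ _ e (_ : IsAffineHom e) => inferInstanceAs (QuasiCompact e)) _ (hha j))) (himg j) (hDX j)
  -- an affine atlas
  obtain ⟨UW, uW, hUW, huW, huWs⟩ := exists_affine_atlas (isQuasiCompactSp_of_mor (hD i) hw hqc)
  haveI : IsAffine UW.left := hUW
  obtain ⟨V, cV, hcV, p, fst, aV, bV, haV, sqV, hVb, hA, hVA, sqj, hfst, hp⟩ :=
    exists_limit_square'' D hDa c hc i (uW ≫ w)
  let eI : (yon S).obj cV.pt ⟶ P := pullback.lift fst ((yon S).map p ≫ uW) (by rw [sqV.w, Category.assoc])
  let e : ∀ j, (yon S).obj (V.obj j) ⟶ DP.obj j := fun j => (hDP j).lift (aV j) ((yon S).map (bV j) ≫ uW)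
    (by rw [(sqj j).w, Category.assoc])
  have sqI : IsPullback eI ((yon S).map p) (pullback.snd (c.π.app i) w) uW := by
    refine IsPullback.of_right (h₁₂ := pullback.fst (c.π.app i) w) (h₂₂ := w) (v₁₃ := c.π.app i) ?_
      (pullback.lift_snd _ _ _) (IsPullback.of_hasPullback _ _)
    rw [pullback.lift_fst]
    exact sqV
  have sqe : ∀ j, IsPullback (e j) ((yon S).map (bV j)) (π₂.app j) uW := fun j => by
    refine IsPullback.of_right (h₁₂ := π₁.app j) (h₂₂ := w) (v₁₃ := D.map j.hom) ?_
      ((hDP j).lift_snd _ _ _) (hDP j)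
    rw [(hDP j).lift_fst]
    exact sqj j
  have sqE : ∀ j, IsPullback eI ((yon S).map (cV.π.app j)) (q j) (e j) := fun j => by
    refine IsPullback.of_bot (h₂₁ := e j) (v₂₁ := (yon S).map (bV j)) (v₂₂ := π₂.app j) (h₃₁ := uW) ?_ ?_ (sqe j)
    · rw [← Functor.map_comp, ← hp j, (hDP j).lift_snd]
      exact sqI
    · refine (hDP j).hom_ext ?_ ?_
      · rw [Category.assoc, (hDP j).lift_fst, pullback.lift_fst_assoc, hfst j, Category.assoc, (hDP j).lift_fst]
      · rw [Category.assoc, (hDP j).lift_snd, pullback.lift_snd, Category.assoc, (hDP j).lift_snd, ← Category.assoc,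
          ← Functor.map_comp, ← hp j]
  have heI : RepWith @Etale eI := repWith_of_isPullback sqI.flip huW
  have heIs : RepWith @Surjective eI := repWith_of_isPullback sqI.flip huWs
  have hej : ∀ j, RepWith @Etale (e j) := fun j => repWith_of_isPullback (sqe j).flip huW
  -- the test
  haveI := mono_of_closedImmersion hk
  have key : ∀ (s : Cone DX) (g : s.pt ⟶ P), (∀ j, g ≫ q j = s.π.app j ≫ ε.app j) → ∃ l, l ≫ k = g := by
    intro s g hg
    refine FTIdeal13.exists_factor_of_points k g fun T hT x => ?_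
    haveI : IsAffine T.left := hT
    obtain ⟨Z', π, v, hZ', hπ, hπs, hv⟩ := Groth.Agent.AlgSpDec.exists_affine_cover_lift heI heIs (x ≫ g)
    refine exists_factor_of_cover ((repWith_yon_map_iff _ _).2 hπ) ((repWith_yon_map_iff _ _).2 hπs) _ ?_
    rw [hv]
    haveI : IsClosedImmersion (hk.rep.snd eI).left := hk.property_snd eI
    rw [← factor_iff_of_isPullback (hk.rep.isPullback eI), factor_iff_ker_le]
    haveI : IsAffine cV.pt.left := hA
    refine Scheme.IdealSheafData.le_of_isAffine ?_
    rw [ker_ideal_top, ker_ideal_top]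
    intro z hz
    rw [RingHom.mem_ker] at hz ⊢
    haveI : ∀ j, IsAffine ((V ⋙ Over.forget S).obj j) := hVA
    obtain ⟨j, t, ht⟩ := exists_appTop_π_eq_of_isAffine_of_isLimit (V ⋙ Over.forget S) ((Over.forget S).mapCone cV)
      (isLimitOfPreserves (Over.forget S) hcV) z
    change (cV.π.app j).left.appTop.hom t = z at ht
    let Ej : EtOver (DP.obj j) := EtOver.mk (e j) (hej j)
    have hEj : IsAffine Ej.obj.left.left := hVA j
    have h1 : t ∈ (idealOfRep (hha j).rep).ideal Ej hEj := by
      rw [mem_idealOfRep_iff]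
      let Q := (hha j).rep.pullback (e j)
      obtain ⟨m, hm⟩ := (yon S).map_surjective ((sqE j).lift ((hha j).rep.fst (e j) ≫ k)
        ((yon S).map ((hha j).rep.snd (e j)))
        (by rw [Category.assoc, hkq j]; exact (hha j).rep.w (e j)))
      have hm₁ : (yon S).map m ≫ eI = (hha j).rep.fst (e j) ≫ k := by rw [hm, (sqE j).lift_fst]
      have hm₂ : m ≫ cV.π.app j = (hha j).rep.snd (e j) :=
        (yon S).map_injective (by rw [Functor.map_comp, hm, (sqE j).lift_snd])
      let l := hk.rep.lift ((hha j).rep.fst (e j)) m hm₁.symm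
      have hl : l ≫ hk.rep.snd eI = m := hk.rep.lift_snd _ _ _
      show ((hha j).rep.snd (e j)).left.appTop.hom t = 0
      rw [← hm₂, ← hl, Over.comp_left, Over.comp_left, Scheme.Hom.comp_appTop, Scheme.Hom.comp_appTop]
      simp only [CommRingCat.comp_apply]
      exact (congrArg (fun y => l.left.appTop.hom ((hk.rep.snd eI).left.appTop.hom y)) ht).trans
        ((congrArg (fun y => l.left.appTop.hom y) hz).trans (map_zero _))
    have h2 := hKle j Ej hEj h1
    rw [mem_idealOfRep_iff] at h2
    have hw' : ((yon S).map π ≫ x ≫ s.π.app j) ≫ ε.app j = (yon S).map (v ≫ cV.π.app j) ≫ e j := by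
      rw [Functor.map_comp, Category.assoc, Category.assoc, Category.assoc, ← (sqE j).w, ← hg j]
      exact (Category.assoc _ _ _).symm.trans ((congrArg (fun m => m ≫ g ≫ q j) (rfl : (yon S).map π ≫ x = _)).trans
        (by simpa only [Category.assoc] using congrArg (· ≫ q j) hv))
    let l := (himg j).1.rep.lift ((yon S).map π ≫ x ≫ s.π.app j) (v ≫ cV.π.app j) hw'
    have hl : l ≫ (himg j).1.rep.snd (e j) = v ≫ cV.π.app j := (himg j).1.rep.lift_snd _ _ _
    rw [← ht]
    show ((cV.π.app j).left.appTop ≫ v.left.appTop).hom t = 0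
    rw [← Scheme.Hom.comp_appTop, ← Over.comp_left, ← hl, Over.comp_left, Scheme.Hom.comp_appTop]
    simp only [CommRingCat.comp_apply]
    exact (congrArg (fun y => l.left.appTop.hom y) h2).trans (map_zero _)
  -- the limit
  have hlift : ∀ s : Cone DX, ∃ l : s.pt ⟶ X.obj, ∀ j, l ≫ ξ.app j = s.π.app j := fun s => by
    let c₁ : Cone (CategoryTheory.Over.forget i ⋙ D) :=
      { pt := s.pt
        π :=
          { app := fun j => s.π.app j ≫ ε.app j ≫ π₁.app j
            naturality := fun j j' φ => by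
              refine (Category.id_comp _).trans ?_
              rw [← s.w φ, Category.assoc, Category.assoc, Category.assoc, ε.naturality_assoc, π₁.naturality] } }
    let top : Over i := Over.mk (𝟙 i)
    let τ : DX ⟶ (Functor.const (Over i)).obj W.obj := ε ≫ π₂
    have hτ : ∀ j, s.π.app top ≫ τ.app top = s.π.app j ≫ τ.app j := fun j => const_proj_eq τ s top j
    let g : s.pt ⟶ P := pullback.lift (hc'.lift c₁) (s.π.app top ≫ τ.app top) (by
      refine (hc'.fac c₁ top).trans ?_
      show s.π.app top ≫ ε.app top ≫ π₁.app top = (s.π.app top ≫ ε.app top ≫ π₂.app top) ≫ w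
      have h := (hDP top).w
      rw [show D.map top.hom = 𝟙 _ from D.map_id i] at h
      rw [Category.assoc, Category.assoc, ← h]
      exact congrArg (fun m => s.π.app top ≫ ε.app top ≫ m) (Category.comp_id _).symm)
    have hg : ∀ j, g ≫ q j = s.π.app j ≫ ε.app j := fun j => (hDP j).hom_ext
      (by
        rw [Category.assoc, (hDP j).lift_fst, pullback.lift_fst_assoc, Category.assoc]
        exact hc'.fac c₁ j)
      (by
        rw [Category.assoc, (hDP j).lift_snd, pullback.lift_snd, Category.assoc]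
        exact hτ j)
    obtain ⟨l, hl⟩ := key s g hg
    refine ⟨l, fun j => ?_⟩
    haveI := mono_of_closedImmersion (himg j).1
    refine (cancel_mono (ε.app j)).1 ?_
    rw [Category.assoc, ← hkq j, ← Category.assoc, hl, hg j]
  choose lift hfac using hlift
  refine ⟨IsLimit.mk lift hfac fun s l hl => ?_⟩
  have heq : ∀ j, l ≫ k ≫ q j = lift s ≫ k ≫ q j := fun j => by
    rw [hkq j, ← Category.assoc, ← Category.assoc, hfac]
    exact congrArg (· ≫ ε.app j) (hl j)
  refine (cancel_mono k).1 (pullback.hom_ext (hc'.hom_ext fun j => ?_) ?_)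
  · have h := congrArg (· ≫ π₁.app j) (heq j)
    simp only [Category.assoc, q, (hDP j).lift_fst] at h
    simp only [Category.assoc]
    exact h
  · have h := congrArg (· ≫ π₂.app (Over.mk (𝟙 i))) (heq (Over.mk (𝟙 i)))
    simp only [Category.assoc, q, (hDP _).lift_snd] at h
    simpa only [Category.assoc] using h

end Groth.Agent.SchImLim13
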