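import Groth.Agent.SchImLim13.Basic
import Groth.Agent.AlgSpDec.LimLfpSpaces
import Groth.Agent.AlgSpDec.MinimalNonScheme

/-!
# Morphisms of systems of scheme theoretic images
-/

set_option autoImplicit false
set_option linter.style.haveILetI false
set_option backward.isDefEq.respectTransparency false
set_option backward.isDefEq.respectTransparency.types false

universe u

open CategoryTheory CategoryTheory.Limits AlgebraicGeometry Opposite AlgSp
open Groth.Agent.AlgSpLib Groth.Agent.AlgSpPts Groth.Agent.AlgSpDec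

namespace Groth.Agent.SchImLim13

variable {S : Scheme.{u}} [QuasiSeparatedSpace S] {I : Type u} [SmallCategory I] [IsCofiltered I]
  (D : I ⥤ Sp S) (hD : ∀ i, IsAlgSpace (D.obj i))
  (hDa : ∀ (i j : I) (φ : i ⟶ j), IsAffineMor (D.map φ))

omit [QuasiSeparatedSpace ↥S] [IsCofiltered I] in
include hDa in
/-- The stages of a system of closed subspaces of base changes form a system with affine transition maps. -/
theorem system_props {i : I} (W : Space S) (w : W.obj ⟶ D.obj i)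
    (hWqc : IsQuasiCompactSp W.obj) (hWqs : IsQuasiSeparatedSp W.obj)
    (DP : Over i ⥤ Sp S) (π₁ : DP ⟶ CategoryTheory.Over.forget i ⋙ D)
    (π₂ : DP ⟶ (Functor.const (Over i)).obj W.obj)
    (hDP : ∀ i' : Over i, IsPullback (π₁.app i') (π₂.app i') (D.map i'.hom) w)
    (DX : Over i ⥤ Sp S) (ε : DX ⟶ DP) (hε : ∀ j, RepWith @IsClosedImmersion (ε.app j)) :
    (∀ j, IsQuasiCompactSp (DX.obj j)) ∧ (∀ j, IsQuasiSeparatedSp (DX.obj j)) ∧
      (∀ (j k : Over i) (φ : j ⟶ k), IsAffineMor (DX.map φ)) := by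
  have hcl : ∀ j, RepWith @IsAffineHom (ε.app j) := fun j =>
    repWith_mono (fun _ _ e (_ : IsClosedImmersion e) => inferInstanceAs (IsAffineHom e)) _ (hε j)
  have haff : ∀ j, RepWith @IsAffineHom (ε.app j ≫ π₂.app j) := fun j =>
    repWith_comp (hcl j) (repWith_of_isPullback (hDP j) (repWith_isAffineHom_of_isAffineMor (hDa _ _ _)))
  refine ⟨fun j => isQuasiCompactSp_of_affine W.property _ (haff j) hWqc,
    fun j => isQuasiSeparatedSp_of_affine _ (haff j) hWqs, fun j k φ => ?_⟩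
  have := mono_of_closedImmersion (hε k)
  refine isAffineMor_cancel_mono _ (ε.app k) ?_
  rw [ε.naturality φ]
  have sq : IsPullback (π₁.app j) (DP.map φ) (D.map φ.left) (π₁.app k) := by
    refine IsPullback.of_bot (h₂₁ := π₁.app k) (v₂₁ := π₂.app k) (v₂₂ := D.map k.hom) (h₃₁ := w) ?_
      (π₁.naturality φ).symm (hDP k)
    have h1 : DP.map φ ≫ π₂.app k = π₂.app j := (π₂.naturality φ).trans (Category.comp_id _)
    have h2 : D.map φ.left ≫ D.map k.hom = D.map j.hom := by rw [← D.map_comp, Over.w φ]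
    rw [h1]
    exact h2.symm ▸ hDP j
  exact isAffineMor_of_repWith le_rfl (repWith_comp (hcl j)
    (repWith_of_isPullback sq (repWith_isAffineHom_of_isAffineMor (hDa _ _ _))))

include hD hDa in
/-- A map of limits of good diagrams comes from a map of their systems of scheme theoretic images. -/
theorem exists_morphism_schImage (hqc : ∀ i, IsQuasiCompactSp (D.obj i)) (hqs : ∀ i, IsQuasiSeparatedSp (D.obj i))
    (c : Cone D) (hc : IsLimit c) (X Y : Space S) (aX : X.obj ⟶ c.pt) (aY : Y.obj ⟶ c.pt) (f : X.obj ⟶ Y.obj)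
    (hf : f ≫ aY = aX)
    (i₁ : I) (W : Space S) (w : W.obj ⟶ D.obj i₁) (hw : IsFinitePresentationMor w) (bX : X.obj ⟶ W.obj)
    (k : X.obj ⟶ pullback (c.π.app i₁) w) (hk₁ : k ≫ pullback.fst _ _ = aX) (hk₂ : k ≫ pullback.snd _ _ = bX)
    (hk : RepWith @IsClosedImmersion k)
    (PX : Over i₁ ⥤ Sp S) (PXπ₁ : PX ⟶ CategoryTheory.Over.forget i₁ ⋙ D)
    (PXπ₂ : PX ⟶ (Functor.const (Over i₁)).obj W.obj)
    (hPX : ∀ i' : Over i₁, IsPullback (PXπ₁.app i') (PXπ₂.app i') (D.map i'.hom) w)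
    (DX : Over i₁ ⥤ Sp S) (hDX : ∀ i', IsAlgSpace (DX.obj i')) (εX : DX ⟶ PX)
    (ξX : (Functor.const (Over i₁)).obj X.obj ⟶ DX)
    (hξX : ∀ i' : Over i₁, ξX.app i' ≫ εX.app i' ≫ PXπ₁.app i' = aX ≫ c.π.app i'.left ∧
      ξX.app i' ≫ εX.app i' ≫ PXπ₂.app i' = bX)
    (himgX : ∀ i' : Over i₁, IsSchImage (ξX.app i' ≫ εX.app i') (εX.app i'))
    (i₂ : I) (V : Space S) (v : V.obj ⟶ D.obj i₂) (hv : IsFinitePresentationMor v) (bY : Y.obj ⟶ V.obj)
    (hbY : bY ≫ v = aY ≫ c.π.app i₂)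
    (PY : Over i₂ ⥤ Sp S) (PYπ₁ : PY ⟶ CategoryTheory.Over.forget i₂ ⋙ D)
    (PYπ₂ : PY ⟶ (Functor.const (Over i₂)).obj V.obj)
    (hPY : ∀ i' : Over i₂, IsPullback (PYπ₁.app i') (PYπ₂.app i') (D.map i'.hom) v)
    (DY : Over i₂ ⥤ Sp S) (εY : DY ⟶ PY) (hεY : ∀ i', RepWith @IsClosedImmersion (εY.app i'))
    (ξY : (Functor.const (Over i₂)).obj Y.obj ⟶ DY)
    (hξY : ∀ i' : Over i₂, ξY.app i' ≫ εY.app i' ≫ PYπ₁.app i' = aY ≫ c.π.app i'.left ∧
      ξY.app i' ≫ εY.app i' ≫ PYπ₂.app i' = bY) :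
    ∃ (i₀ : I) (φ₁ : i₀ ⟶ i₁) (φ₂ : i₀ ⟶ i₂) (fam : Over.map φ₁ ⋙ DX ⟶ Over.map φ₂ ⋙ DY),
      (∀ i' : Over i₀, ξX.app ((Over.map φ₁).obj i') ≫ fam.app i' = f ≫ ξY.app ((Over.map φ₂).obj i')) ∧
        (∀ i' : Over i₀, fam.app i' ≫ εY.app ((Over.map φ₂).obj i') ≫ PYπ₁.app ((Over.map φ₂).obj i') =
          εX.app ((Over.map φ₁).obj i') ≫ PXπ₁.app ((Over.map φ₁).obj i')) ∧
      ∀ gam : Over.map φ₁ ⋙ DX ⟶ Over.map φ₂ ⋙ DY,
        (∀ i' : Over i₀, ξX.app ((Over.map φ₁).obj i') ≫ gam.app i' = f ≫ ξY.app ((Over.map φ₂).obj i')) ∧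
        (∀ i' : Over i₀, gam.app i' ≫ εY.app ((Over.map φ₂).obj i') ≫ PYπ₁.app ((Over.map φ₂).obj i') =
          εX.app ((Over.map φ₁).obj i') ≫ PXπ₁.app ((Over.map φ₁).obj i')) →
        ∃ (j₀ : I) (ψ : j₀ ⟶ i₀), ∀ j : Over j₀, fam.app ((Over.map ψ).obj j) = gam.app ((Over.map ψ).obj j) := by
  classical
  have hWqc : IsQuasiCompactSp W.obj := isQuasiCompactSp_of_mor (hD i₁) hw.2.1 (hqc i₁)
  have hWqs : IsQuasiSeparatedSp W.obj := (isQuasiSeparatedSp_iff_mor _).2 (by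
    rw [(isTerminalYon S).hom_ext ((isTerminalYon S).from W.obj) (w ≫ (isTerminalYon S).from (D.obj i₁))]
    exact isQuasiSeparatedMor_comp hw.2.2 ((isQuasiSeparatedSp_iff_mor _).1 (hqs i₁)))
  obtain ⟨hXc, hXs, hXa⟩ := system_props D hDa W w hWqc hWqs PX PXπ₁ PXπ₂ hPX DX εX (fun j => (himgX j).1)
  obtain ⟨hlim⟩ := isLimit_schImage D hD hDa c hc i₁ (hqc i₁) X aX W w hw.2.1 bX k hk₁ hk₂ hk PX PXπ₁ PXπ₂ hPX
    DX hDX εX ξX hξX himgX
  let cX : Cone DX := Cone.mk X.obj ξX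
  have hvl : LocP @LocallyOfFiniteType v :=
    locP_mono (fun _ _ h (_ : LocallyOfFinitePresentation h) => (inferInstance : LocallyOfFiniteType h)) hv.1
  -- a stage over both indices
  let i₃ := IsCofiltered.min i₁ i₂
  let ψ₁ : i₃ ⟶ i₁ := IsCofiltered.minToLeft i₁ i₂
  let ψ₂ : i₃ ⟶ i₂ := IsCofiltered.minToRight i₁ i₂
  let j : Over i₁ := Over.mk ψ₁
  let y : DX.obj j ⟶ D.obj i₂ := εX.app j ≫ PXπ₁.app j ≫ D.map ψ₂
  have hxy : (f ≫ bY) ≫ v = cX.π.app j ≫ y := by
    show (f ≫ bY) ≫ v = ξX.app j ≫ εX.app j ≫ PXπ₁.app j ≫ D.map ψ₂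
    rw [Category.assoc, hbY, ← Category.assoc, hf]
    have h := congrArg (· ≫ D.map ψ₂) (hξX j).1
    simp only [Category.assoc] at h
    rw [h]
    exact congrArg (fun m => aX ≫ m) (c.w ψ₂).symm
  obtain ⟨k₀, φ, g₀, hg₀, hg₀v⟩ := exists_hom_stage_space DX hXa hXc V.property (hD i₂) v cX hlim hXs hv.1
    (f ≫ bY) y hxy
  let i₀ := k₀.left
  let φ₁ : i₀ ⟶ i₁ := k₀.hom
  let φ₂ : i₀ ⟶ i₂ := φ.left ≫ ψ₂
  let η : ∀ i' : Over i₀, (Over.map φ₁).obj i' ⟶ k₀ := fun i' => Over.homMk i'.hom rfl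
  have hcond : ∀ i' : Over i₀, (εX.app ((Over.map φ₁).obj i') ≫ PXπ₁.app ((Over.map φ₁).obj i')) ≫
      D.map ((Over.map φ₂).obj i').hom = (DX.map (η i') ≫ g₀) ≫ v := fun i' => by
    rw [Category.assoc, Category.assoc, hg₀v]
    show _ = DX.map (η i') ≫ DX.map φ ≫ εX.app j ≫ PXπ₁.app j ≫ D.map ψ₂
    rw [← Functor.map_comp_assoc, εX.naturality_assoc, PXπ₁.naturality_assoc]
    refine congrArg (fun m => εX.app _ ≫ PXπ₁.app _ ≫ m) ?_
    show D.map (i'.hom ≫ φ₂) = D.map (η i' ≫ φ).left ≫ D.map ψ₂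
    rw [← D.map_comp]
    exact congrArg D.map (Category.assoc _ _ _).symm
  let g : ∀ i' : Over i₀, DX.obj ((Over.map φ₁).obj i') ⟶ PY.obj ((Over.map φ₂).obj i') := fun i' =>
    (hPY _).lift (εX.app _ ≫ PXπ₁.app _) (DX.map (η i') ≫ g₀) (hcond i')
  have hξg : ∀ i', ξX.app ((Over.map φ₁).obj i') ≫ g i' =
      (f ≫ ξY.app ((Over.map φ₂).obj i')) ≫ εY.app ((Over.map φ₂).obj i') := fun i' => by
    refine (hPY _).hom_ext ?_ ?_
    · rw [Category.assoc, (hPY _).lift_fst, (hξX _).1, Category.assoc, Category.assoc, (hξY _).1,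
        ← Category.assoc, hf]
      rfl
    · rw [Category.assoc, (hPY _).lift_snd, Category.assoc, Category.assoc, (hξY _).2]
      refine (Category.assoc _ _ _).symm.trans ((congrArg (· ≫ g₀) ?_).trans hg₀)
      exact cX.w (η i')
  have hfac : ∀ i', ∃ m : DX.obj ((Over.map φ₁).obj i') ⟶ DY.obj ((Over.map φ₂).obj i'),
      m ≫ εY.app ((Over.map φ₂).obj i') = g i' := fun i' => by
    have hK : RepWith @IsClosedImmersion (pullback.fst (g i') (εY.app ((Over.map φ₂).obj i'))) :=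
      repWith_of_isPullback (IsPullback.of_hasPullback _ _).flip (hεY _)
    haveI := mono_of_closedImmersion (himgX ((Over.map φ₁).obj i')).1
    obtain ⟨m, hm⟩ := (himgX ((Over.map φ₁).obj i')).2.2 (pullback.fst (g i') (εY.app _) ≫ εX.app _)
      (isAlgSpace_of_representable (hDX _) _ hK.rep) (repWith_comp hK (himgX _).1)
      ⟨pullback.lift (ξX.app _) (f ≫ ξY.app _) (hξg i'), pullback.lift_fst_assoc _ _ _ _⟩
    have hm' : m ≫ pullback.fst (g i') (εY.app ((Over.map φ₂).obj i')) = 𝟙 _ :=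
      (cancel_mono (εX.app ((Over.map φ₁).obj i'))).1 (by rw [Category.assoc, hm, Category.id_comp])
    exact ⟨m ≫ pullback.snd _ _, by rw [Category.assoc, ← pullback.condition, reassoc_of% hm']⟩
  choose m hm using hfac
  let fam : Over.map φ₁ ⋙ DX ⟶ Over.map φ₂ ⋙ DY :=
    { app := m
      naturality := fun i' i'' h => by
        haveI := mono_of_closedImmersion (hεY ((Over.map φ₂).obj i''))
        refine (cancel_mono (εY.app ((Over.map φ₂).obj i''))).1 ?_
        show (DX.map ((Over.map φ₁).map h) ≫ m i'') ≫ _ = (m i' ≫ DY.map ((Over.map φ₂).map h)) ≫ _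
        rw [Category.assoc, hm, Category.assoc, εY.naturality, ← Category.assoc, hm]
        refine (hPY _).hom_ext ?_ ?_
        · rw [Category.assoc, (hPY _).lift_fst, Category.assoc, PYπ₁.naturality, ← Category.assoc (g i'),
            (hPY _).lift_fst, εX.naturality_assoc, PXπ₁.naturality, Category.assoc]
          rfl
        · rw [Category.assoc, (hPY _).lift_snd, Category.assoc, PYπ₂.naturality, ← Category.assoc (g i'),
            (hPY _).lift_snd, ← Functor.map_comp_assoc]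
          refine (congrArg (fun t => DX.map t ≫ g₀) ?_).trans (Category.comp_id _).symm
          ext
          exact Over.w h }
  refine ⟨i₀, φ₁, φ₂, fam, fun i' => ?_, fun i' => ?_, ?_⟩
  · haveI := mono_of_closedImmersion (hεY ((Over.map φ₂).obj i'))
    exact (cancel_mono (εY.app ((Over.map φ₂).obj i'))).1
      ((Category.assoc _ _ _).trans ((congrArg (ξX.app _ ≫ ·) (hm i')).trans (hξg i')))
  · rw [← Category.assoc]
    exact (congrArg (· ≫ PYπ₁.app _) (hm i')).trans ((hPY _).lift_fst _ _ _)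
  · rintro gam ⟨hgam₁, hgam₂⟩
    let top : Over i₀ := Over.mk (𝟙 i₀)
    let x := fam.app top ≫ εY.app _ ≫ PYπ₂.app ((Over.map φ₂).obj top)
    let x' := gam.app top ≫ εY.app _ ≫ PYπ₂.app ((Over.map φ₂).obj top)
    have hfam₁ : ∀ i' : Over i₀, fam.app i' ≫ εY.app ((Over.map φ₂).obj i') ≫
        PYπ₁.app ((Over.map φ₂).obj i') = εX.app ((Over.map φ₁).obj i') ≫ PXπ₁.app ((Over.map φ₁).obj i') :=
      fun i' => (Category.assoc _ _ _).symm.trans
        ((congrArg (· ≫ PYπ₁.app _) (hm i')).trans ((hPY _).lift_fst _ _ _))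
    have he : x ≫ v = x' ≫ v := by
      have h : fam.app top ≫ εY.app _ ≫ PYπ₁.app _ = gam.app top ≫ εY.app _ ≫ PYπ₁.app _ :=
        (hfam₁ top).trans (hgam₂ top).symm
      have h' := congrArg (· ≫ D.map ((Over.map φ₂).obj top).hom) h
      simp only [Category.assoc] at h'
      show (fam.app top ≫ εY.app _ ≫ PYπ₂.app _) ≫ v = (gam.app top ≫ εY.app _ ≫ PYπ₂.app _) ≫ v
      simp only [Category.assoc]
      rw [← (hPY ((Over.map φ₂).obj top)).w]
      exact h'
    have hl : cX.π.app ((Over.map φ₁).obj top) ≫ x = cX.π.app ((Over.map φ₁).obj top) ≫ x' := by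
      have h₁ : ξX.app ((Over.map φ₁).obj top) ≫ fam.app top = ξX.app ((Over.map φ₁).obj top) ≫ gam.app top := by
        haveI := mono_of_closedImmersion (hεY ((Over.map φ₂).obj top))
        exact ((cancel_mono (εY.app ((Over.map φ₂).obj top))).1
          ((Category.assoc _ _ _).trans ((congrArg (ξX.app _ ≫ ·) (hm top)).trans (hξg top)))).trans
          (hgam₁ top).symm
      exact (Category.assoc _ _ _).symm.trans ((congrArg (· ≫ εY.app _ ≫ PYπ₂.app _) h₁).trans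
        (Category.assoc _ _ _))
    obtain ⟨k', φ', hk'⟩ := exists_hom_eq_stage_space DX hXa hXc V.property (hD i₂) v cX hlim hvl x x' he hl
    refine ⟨k'.left, φ'.left, fun j' => ?_⟩
    let i' := (Over.map (φ'.left : k'.left ⟶ i₀)).obj j'
    haveI := mono_of_closedImmersion (hεY ((Over.map φ₂).obj i'))
    refine (cancel_mono (εY.app ((Over.map φ₂).obj i'))).1 ((hPY _).hom_ext ?_ ?_)
    · exact (Category.assoc _ _ _).trans (((hfam₁ i').trans (hgam₂ i').symm).trans (Category.assoc _ _ _).symm)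
    · let t : i' ⟶ top := Over.homMk i'.hom (Category.comp_id _)
      have key : ∀ α : Over.map φ₁ ⋙ DX ⟶ Over.map φ₂ ⋙ DY,
          (α.app i' ≫ εY.app ((Over.map φ₂).obj i')) ≫ PYπ₂.app ((Over.map φ₂).obj i') =
            DX.map ((Over.map φ₁).map t) ≫ α.app top ≫ εY.app _ ≫ PYπ₂.app ((Over.map φ₂).obj top) := fun α => by
        have h := α.naturality t
        rw [Category.assoc]
        refine Eq.trans ?_ ((congrArg (· ≫ εY.app _ ≫ PYπ₂.app _) h).symm.trans (Category.assoc _ _ _))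
        show _ = (α.app i' ≫ DY.map ((Over.map φ₂).map t)) ≫ _
        rw [Category.assoc, εY.naturality_assoc, PYπ₂.naturality]
        simp
      rw [key fam, key gam]
      let κ : (Over.map φ₁).obj i' ⟶ k' := Over.homMk j'.hom (by
        have h := Over.w φ'
        simp [i', top] at h ⊢
        rw [h])
      have hκ : (Over.map φ₁).map t = κ ≫ φ' := by
        ext
        simp [κ, t, i']
      rw [hκ, Functor.map_comp, Category.assoc, Category.assoc]
      exact congrArg (DX.map κ ≫ ·) hk'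

end Groth.Agent.SchImLim13
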